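import Cfsg.Agent.H270.StrP.SzReeFF
import Cfsg.Agent.H296.FFourFix
import Cfsg.Agent.H192.FieldFix
import Cfsg.Agent.H885.FC.Num
import Cfsg.Agent.S1068
import Cfsg.Agent.S1072
import Cfsg.Agent.S1074
import Cfsg.Agent.S2185

/-!
# Field automorphisms of `²F₄(q)` (helper270, for S2120, task 708)

* `tf4_fixed` : the fixed points of a field automorphism of `²F₄(q)` are `²F₄(q₀)`;
* `tf4_two` : the derived subgroup of `²F₄(2)`;
* `fieldFix_tf4`.
-/

set_option autoImplicit false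

namespace Cfsg.Agent.H270.StrP

open scoped Pointwise
open Cfsg Subgroup Cfsg.Agent.H818.StrP Cfsg.Agent.H967.CopMat Cfsg.Agent.OrdDiv Cfsg.Agent.H975.FieldDef

section TwF

open Cfsg.Lie Cfsg.Agent.ChevalleyStructure Cfsg.Agent.ChevalleyStructure.Elts
  Cfsg.Agent.H967.CopSz Cfsg.Agent.H967.CopFix Cfsg.Agent.H967.CopChev Cfsg.Agent.H296.FFour
  Cfsg.Agent.CpAut.RgdUntw
open Cfsg.Agent.GpExc.Field (emb coe_emb emb_injective)
open Cfsg.Agent.H79.SimpleGen (xS)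

/-- the transposed inverse of the Cartan matrix. -/
def invCartanF : Array (Array ℤ) := #[#[2, 3, 2, 1], #[3, 6, 4, 2], #[4, 8, 6, 3], #[2, 4, 3, 2]]

theorem unimodF : Cfsg.Agent.H192.FieldFix.Unimod Cfsg.Lie.chevF4 :=
  ⟨fun j k => (invCartanF.getD j #[]).getD k 0, by decide⟩

theorem simpleF_lt : ∀ k < Cfsg.Lie.chevF4.rank, Cfsg.Lie.chevF4.simple k < Cfsg.Lie.chevF4.nroots := by
  decide

variable {K : Type*} [Field K] [Fintype K] {m : ℕ}

theorem perfect_of_finite (K : Type*) [Field K] [Finite K] [CharP K 2] : PerfectRing K 2 := by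
  have := two_prime
  infer_instance

/-- the fixed points of a field automorphism of `²F₄(q)` -/
theorem tf4_fixed (hK : Fintype.card K = 2 ^ (2 * m + 1)) (σ : K ≃+* K) {m₀ j : ℕ}
    (hE : Nat.card ↥(Fx σ) = 2 ^ (2 * m₀ + 1)) (hj : m = m₀ + j * (2 * m₀ + 1)) :
    ∃ f : ↥(twistedF4 ↥(Fx σ) (2 ^ m₀)) →* ↥(twistedF4 K (2 ^ m)), Function.Injective f ∧
      ∀ g, fieldAut (stab_f4 (K := K) (2 ^ m)) σ g = g ↔ g ∈ f.range := by
  have h2p := two_prime
  have hfinE : Fintype ↥(Fx σ) := Fintype.ofFinite _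
  have hE' : Fintype.card ↥(Fx σ) = 2 ^ (2 * m₀ + 1) := by rw [← Nat.card_eq_fintype_card, hE]
  have hcK : CharP K 2 := charP_of_card Nat.prime_two hK
  have hcE : CharP ↥(Fx σ) 2 := charP_of_card Nat.prime_two hE'
  have hpK : PerfectRing K 2 := perfect_of_finite K
  have hpE : PerfectRing ↥(Fx σ) 2 := perfect_of_finite ↥(Fx σ)
  have hpow : ∀ x : ↥(Fx σ), x ^ (2 ^ m) = x ^ (2 ^ m₀) := fun x => pow_eq hE hj x
  have heq : twistedF4 ↥(Fx σ) (2 ^ m) = twistedF4 ↥(Fx σ) (2 ^ m₀) := twistedF4_congr hpow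
  let f : ↥(twistedF4 ↥(Fx σ) (2 ^ m₀)) →* ↥(twistedF4 K (2 ^ m)) :=
    { toFun := fun g => ⟨Matrix.GeneralLinearGroup.map (Fx σ).subtype g.1,
        words_f4 (Fx σ).subtype (2 ^ m) ⟨g.1, by rw [heq]; exact g.2, rfl⟩⟩
      map_one' := Subtype.ext (map_one _)
      map_mul' := fun a b => Subtype.ext (map_mul _ _ _) }
  refine ⟨f, ?_, ?_⟩
  · intro a b hab
    exact Subtype.ext (map_injective (Fx σ).subtype (congrArg Subtype.val hab))
  intro g
  constructor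
  swap
  · rintro ⟨g₀, rfl⟩
    exact Subtype.ext (map_fixed σ g₀.1)
  intro hg
  -- the graph automorphisms
  let τ : K ≃+* K := iterateFrobeniusEquiv K 2 m
  have hτ : ∀ a, τ a = a ^ 2 ^ m := fun a => iterateFrobeniusEquiv_def K 2 m a
  let ρ : ↥(Fx σ) ≃+* ↥(Fx σ) := iterateFrobeniusEquiv ↥(Fx σ) 2 m₀
  have hρ : ∀ a, ρ a = a ^ 2 ^ m₀ := fun a => iterateFrobeniusEquiv_def ↥(Fx σ) 2 m₀ a
  obtain ⟨a, ha, hsa⟩ := le_fix hK hτ g.2
  have hga : Cfsg.Agent.H192.FieldFix.glMap chevF4 (σ : K →+* K) (g : GL chevF4.Idx K) = g := congrArg Subtype.val hg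
  obtain ⟨b, hb, hba⟩ := Cfsg.Agent.H192.FieldFix.group_mem_range (D := chevF4) hp4.inList unimodF simpleF_lt
    (σ : K →+* K) (Fx σ).subtype (fun t ht => ⟨⟨t, ht⟩, rfl⟩) (g := (g : GL chevF4.Idx K)) (by rw [← ha]; exact a.2) hga
  have hcomp : (sg τ).toMonoidHom.comp (emb (D := chevF4) hp4.inList (Fx σ).subtype) =
      (emb (D := chevF4) hp4.inList (Fx σ).subtype).comp (sg ρ).toMonoidHom := by
    apply ext4
    intro r hr t
    have hbr := (tab r hr).1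
    have hx : ∀ (s : ℕ) (u : ↥(Fx σ)), emb (D := chevF4) hp4.inList (Fx σ).subtype (xS hp4.inList s u) =
        xS hp4.inList s ((Fx σ).subtype u) := by
      intro s u
      apply Subtype.ext
      rw [coe_emb]
      exact Cfsg.Agent.GpExc.Field.glMap_xG hp4.inList (Fx σ).subtype s u
    show sg τ (emb (D := chevF4) hp4.inList (Fx σ).subtype (xS hp4.inList r t)) =
      emb (D := chevF4) hp4.inList (Fx σ).subtype (sg ρ (xS hp4.inList r t))
    rw [hx, sg_xS τ hr, sg_xS ρ hr, hx, hτ, hρ, ← hpow]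
    rfl
  have hab : emb (D := chevF4) hp4.inList (Fx σ).subtype ⟨b, hb⟩ = a := by
    apply Subtype.ext
    rw [coe_emb, ha, ← hba]
    rfl
  have hsb : sg ρ ⟨b, hb⟩ = ⟨b, hb⟩ := by
    apply emb_injective (D := chevF4) hp4.inList (Fx σ).subtype
    have h1 := DFunLike.congr_fun hcomp ⟨b, hb⟩
    have h2 : sg τ (emb (D := chevF4) hp4.inList (Fx σ).subtype ⟨b, hb⟩) =
      emb (D := chevF4) hp4.inList (Fx σ).subtype (sg ρ ⟨b, hb⟩) := h1
    rw [← h2, hab, hsa]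
  have hbm : b ∈ twistedF4 ↥(Fx σ) (2 ^ m₀) := fix_le hE' hρ hsb
  exact ⟨⟨b, hbm⟩, Subtype.ext hba⟩

/-- `²F₄(2)` over a field with two elements -/
noncomputable def tf4_equiv {E : Type*} [Field E] [Fintype E] (hE : Fintype.card E = 2) :
    ↥(twistedF4 (ZMod 2) 1) ≃* ↥(twistedF4 E 1) := by
  let r : ZMod 2 ≃+* E := ZMod.ringEquivOfPrime E Nat.prime_two (by rw [hE])
  exact
    { toFun := fun g => ⟨Matrix.GeneralLinearGroup.map (r : ZMod 2 →+* E) g.1,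
        words_f4 (r : ZMod 2 →+* E) 1 ⟨g.1, g.2, rfl⟩⟩
      invFun := fun g => ⟨Matrix.GeneralLinearGroup.map (r.symm : E →+* ZMod 2) g.1,
        words_f4 (r.symm : E →+* ZMod 2) 1 ⟨g.1, g.2, rfl⟩⟩
      left_inv := fun g => ext_mat fun i j => r.symm_apply_apply _
      right_inv := fun g => ext_mat fun i j => r.apply_symm_apply _
      map_mul' := fun a b => Subtype.ext (map_mul _ _ _) }

theorem cent_abs {R : Type*} [Group R] {N : Subgroup R} [hn : N.Normal] (hidx : N.index = 2) (hs : IsSimpleGroup ↥N)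
    (hna : ¬ IsMulCommutative ↥N) (hinv : ∀ g : R, orderOf g = 2 → g ∈ N) (z : R) (hz : z ∈ centralizer (N : Set R)) :
    z = 1 := by
  have hZN : ∀ w ∈ centralizer (N : Set R), w ∈ N → w = 1 := by
    intro w hw hwN
    have h1 : (⟨w, hwN⟩ : ↥N) ∈ center ↥N := by
      rw [mem_center_iff]
      intro v
      exact Subtype.ext ((mem_centralizer_iff.1 hw) v.1 v.2)
    rw [center_eq_bot hna, mem_bot] at h1
    exact congrArg Subtype.val h1
  have h2 : z ^ 2 ∈ N := by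
    have := Subgroup.pow_index_mem (H := N) z
    rwa [hidx] at this
  have h3 : z ^ 2 = 1 := hZN _ (pow_mem hz 2) h2
  by_contra hne
  have h4 : orderOf z = 2 := orderOf_eq_prime h3 hne
  exact hne (hZN z hz (hinv z h4))

theorem trans_abs {A B : Type*} [Group A] [Group B] (e : A ≃* B) {n : ℕ} (hc : Nat.card ↥(commutator A) = n)
    (hs : IsSimpleGroup ↥(commutator A)) (hna : ¬ IsMulCommutative ↥(commutator A))
    (hz : ∀ z : A, z ∈ centralizer (commutator A : Set A) → z = 1) :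
    Nat.card ↥(commutator B) = n ∧ IsSimpleGroup ↥(commutator B) ∧ (¬ IsMulCommutative ↥(commutator B)) ∧
      ∀ r : B, r ∈ centralizer (commutator B : Set B) → r = 1 := by
  obtain ⟨c1, s1⟩ := comm_transport e ⟨hc, hs⟩
  refine ⟨c1, s1, ?_, ?_⟩
  · intro h
    apply hna
    exact ⟨⟨fun a b => (commEquiv e).injective (by
      rw [map_mul, map_mul]
      exact h.is_comm.comm _ _)⟩⟩
  · intro r hr
    have h1 : e.symm r = 1 := by
      apply hz
      rw [mem_centralizer_iff] at hr ⊢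
      intro v hv
      have hv' : e v ∈ (commutator B) := ((commEquiv e) ⟨v, hv⟩).2
      have h2 := hr (e v) hv'
      apply e.injective
      rw [map_mul, map_mul, e.apply_symm_apply]
      exact h2
    have h2 := congrArg e h1
    rwa [e.apply_symm_apply, map_one] at h2

theorem trans_sub {Γ Δ : Type*} [Group Γ] [Group Δ] (A : Subgroup Γ) (B : Subgroup Δ) (e : ↥A ≃* ↥B) {n : ℕ}
    (hc : Nat.card ↥(commutator ↥A) = n) (hs : IsSimpleGroup ↥(commutator ↥A))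
    (hna : ¬ IsMulCommutative ↥(commutator ↥A))
    (hz : ∀ z : ↥A, z ∈ centralizer (commutator ↥A : Set ↥A) → z = 1) :
    Nat.card ↥(commutator ↥B) = n ∧ IsSimpleGroup ↥(commutator ↥B) ∧ (¬ IsMulCommutative ↥(commutator ↥B)) ∧
      ∀ r : ↥B, r ∈ centralizer (commutator ↥B : Set ↥B) → r = 1 := trans_abs e hc hs hna hz

theorem cent_sub {Γ : Type*} [Group Γ] (A : Subgroup Γ) (hidx : (commutator ↥A).index = 2)
    (hs : IsSimpleGroup ↥(commutator ↥A)) (hna : ¬ IsMulCommutative ↥(commutator ↥A))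
    (hinv : ∀ g : ↥A, orderOf g = 2 → g ∈ commutator ↥A) (z : ↥A)
    (hz : z ∈ centralizer (commutator ↥A : Set ↥A)) : z = 1 := cent_abs hidx hs hna hinv z hz

theorem tf4_two {E : Type*} [Field E] [Fintype E] (hE : Fintype.card E = 2) {d : ℕ} (hd : d = 1) :
    Nat.card ↥(commutator ↥(twistedF4 E d)) = 17971200 ∧ IsSimpleGroup ↥(commutator ↥(twistedF4 E d)) ∧
      (¬ IsMulCommutative ↥(commutator ↥(twistedF4 E d))) ∧
      ∀ r : ↥(twistedF4 E d), r ∈ centralizer (commutator ↥(twistedF4 E d) : Set ↥(twistedF4 E d)) → r = 1 := by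
  subst hd
  have h := Cfsg.Agent.S1074.result
  have hidx : (commutator ↥(twistedF4 (ZMod 2) 1)).index = 2 := h.1
  have hs : IsSimpleGroup ↥(commutator ↥(twistedF4 (ZMod 2) 1)) := h.2.1
  have hna : ¬ IsMulCommutative ↥(commutator ↥(twistedF4 (ZMod 2) 1)) := h.2.2.1
  have hc : Nat.card ↥(commutator ↥(twistedF4 (ZMod 2) 1)) = 2 ^ 11 * 3 ^ 3 * 5 ^ 2 * 13 := h.2.2.2
  have h1 := trans_sub (twistedF4 (ZMod 2) 1) (twistedF4 E 1) (tf4_equiv hE) hc hs hna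
    (cent_sub (twistedF4 (ZMod 2) 1) hidx hs hna Cfsg.Agent.S2185.result)
  refine ⟨h1.1.trans ?_, h1.2⟩
  norm_num

theorem fact_grow {p : ℕ} (hp : p.Prime) (hp2 : p ≠ 2) {k N : ℕ} {P : ℕ → ℕ} (hP : Cfsg.Agent.H885.FC.Gr p P)
    (hk : 1 ≤ k) {c c₀ : ℕ} (h : c = ((2 ^ k) ^ p) ^ N * P ((2 ^ k) ^ p)) (h₀ : c₀ = (2 ^ k) ^ N * P (2 ^ k))
    (hd : p ∣ c) : c₀.factorization p < c.factorization p := by
  have hpq : ∀ n : ℕ, ¬ p ∣ 2 ^ n := fun n h =>
    hp2 ((Nat.prime_dvd_prime_iff_eq hp Nat.prime_two).1 (hp.dvd_of_dvd_pow h))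
  have h2 : 2 ≤ 2 ^ k := Nat.le_self_pow (by omega) 2
  obtain ⟨g1, g2, -, g4⟩ := hP _ h2
  obtain ⟨g5, -⟩ := hP _ (Cfsg.Agent.H885.FC.two_le_pow hp.ne_zero h2)
  have e1 : (2 ^ k) ^ N = 2 ^ (k * N) := (pow_mul 2 k N).symm
  have e2 : ((2 ^ k) ^ p) ^ N = 2 ^ (k * p * N) := by rw [← pow_mul, ← pow_mul, mul_assoc]
  rw [h, e2] at hd
  have h3 : p ∣ P ((2 ^ k) ^ p) := (hp.dvd_mul.1 hd).resolve_left (hpq _)
  rw [h, h₀, e1, e2, Nat.factorization_mul (by positivity) g1, Nat.factorization_mul (by positivity) g5,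
    Finsupp.add_apply, Finsupp.add_apply, Nat.factorization_eq_zero_of_not_dvd (hpq _),
    Nat.factorization_eq_zero_of_not_dvd (hpq _), zero_add, zero_add]
  exact g4 (g2 h3)

end TwF

section Main

open Cfsg.Lie Cfsg.Agent.H967.CopSz Cfsg.Agent.H967.CopFix

variable {K : Type} [Field K] [Fintype K] {m : ℕ}

theorem fieldFix_tf4' (hm : 1 ≤ m) (hK : Fintype.card K = 2 ^ (2 * m + 1)) {p : ℕ} [hp : Fact p.Prime] (hp2 : p ≠ 2) :
    FieldFix p .tf4 (2 ^ (2 * m + 1)) ↥(twistedF4 K (2 ^ m)) := by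
  have h2p := two_prime
  have hcF : CharP K 2 := charP_of_card Nat.prime_two hK
  have hs : IsSimpleGroup ↥(twistedF4 K (2 ^ m)) := (Cfsg.Agent.S1072.result hm hK).1
  have hcard := Cfsg.Agent.S1068.result hK
  have hna : ¬ IsMulCommutative ↥(twistedF4 K (2 ^ m)) := (Cfsg.Agent.S1072.result hm hK).2
  intro x hx hxi hpY hcyc
  obtain ⟨σ, hσ, hσ', g, hg⟩ := exists_field (stab_f4 (K := K) (2 ^ m)) (p := 2) (by omega) hK (S2128.result hm hK)
    (fun ψ => by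
      obtain ⟨g, σ, h⟩ := Cfsg.Agent.H71.FldAut.twF4_aut hm hK ψ
      exact ⟨g, σ, h⟩) hp.out hx hxi
  have hE := card_Fx σ
  rw [hσ, Nat.card_eq_fintype_card, hK] at hE
  obtain ⟨m₀, j, h1, h2⟩ := exists_odd_exp Nat.prime_two hE
  have h3 : 2 * m + 1 = (2 * m₀ + 1) * p := by
    rw [h1, ← pow_mul] at hE
    exact Nat.pow_right_injective (le_refl 2) hE
  have hfinE : Fintype ↥(Fx σ) := Fintype.ofFinite _
  have hE' : Fintype.card ↥(Fx σ) = 2 ^ (2 * m₀ + 1) := by rw [← Nat.card_eq_fintype_card, h1]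
  have hqq : 2 ^ (2 * m + 1) = (2 ^ (2 * m₀ + 1)) ^ p := by rw [h3, pow_mul]
  obtain ⟨f, hf, hfix⟩ := tf4_fixed hK σ h1 h2
  have hcard₀ := Cfsg.Agent.S1068.result hE'
  have hlt : (Nat.card ↥(twistedF4 ↥(Fx σ) (2 ^ m₀))).factorization p <
      (Nat.card ↥(twistedF4 K (2 ^ m))).factorization p := by
    have hG := (((Cfsg.Agent.H885.FC.gr_sub hp.out hp2 (i := 1) le_rfl).mul hp.out
      (Cfsg.Agent.H885.FC.gr_add hp.out hp2 3)).mul hp.out
      (Cfsg.Agent.H885.FC.gr_sub hp.out hp2 (i := 4) (by norm_num))).mul hp.out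
      (Cfsg.Agent.H885.FC.gr_add hp.out hp2 6)
    refine fact_grow hp.out hp2 hG (k := 2 * m₀ + 1) (N := 12) (by omega) ?_ ?_ hpY
    · rw [hcard, ← hqq, pow_one]
      ring
    · rw [hcard₀, pow_one]
      ring
  have hfixc : (Nat.card {y : ↥(twistedF4 K (2 ^ m)) // fieldAut (stab_f4 (K := K) (2 ^ m)) σ y = y}).factorization p <
      (Nat.card ↥(twistedF4 K (2 ^ m))).factorization p := by
    rw [Nat.card_congr (Equiv.subtypeEquivRight hfix)]
    have h9 : Nat.card ↥f.range = Nat.card ↥(twistedF4 ↥(Fx σ) (2 ^ m₀)) :=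
      (Nat.card_congr (MonoidHom.ofInjective hf).toEquiv).symm
    exact lt_of_eq_of_lt (congrArg (fun n => n.factorization p) h9) hlt
  obtain ⟨β, hβ⟩ := coset_conj (center_eq_bot hna) hp2 hcyc hx hσ' hg hfixc
  have hff : FF p .tf4 (2 ^ (2 * m + 1)) (fieldAut (stab_f4 (K := K) (2 ^ m)) σ) := by
    rcases Nat.eq_zero_or_pos m₀ with h0 | h0
    · subst h0
      obtain ⟨c1, s1, na1, z1⟩ := tf4_two (E := ↥(Fx σ)) (by rw [hE']; norm_num) (d := 2 ^ 0) (pow_zero 2)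
      refine ff_of_normal f hf hfix (commutator ↥(twistedF4 ↥(Fx σ) (2 ^ 0))) s1 na1 z1 hqq ?_
      rintro B ⟨e⟩
      refine Or.inr (Or.inr (Or.inr (Or.inr ⟨by norm_num, ?_⟩)))
      rw [← Nat.card_congr e.toEquiv, c1]
    · have hs₀ : IsSimpleGroup ↥(twistedF4 ↥(Fx σ) (2 ^ m₀)) := (Cfsg.Agent.S1072.result h0 hE').1
      have hna₀ : ¬ IsMulCommutative ↥(twistedF4 ↥(Fx σ) (2 ^ m₀)) := (Cfsg.Agent.S1072.result h0 hE').2
      refine ff_of_range hs₀ hna₀ f hf hfix hqq ?_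
      rintro B ⟨e⟩
      exact ⟨↥(Fx σ), inferInstance, hfinE, m₀, h0, hE', rfl, ⟨e.symm⟩⟩
  refine hff.congr β hβ ?_
  rintro r A B ⟨e⟩ ⟨F', i1, i2, k, hk, hF', hr, ⟨e'⟩⟩
  exact ⟨F', i1, i2, k, hk, hF', hr, ⟨e.symm.trans e'⟩⟩

/-- **Outer automorphisms of odd prime order of the groups `²F₄(q)`**, interface `FieldFix` -/
theorem fieldFix_tf4 {Y : Type*} [Group Y] {q : ℕ} (h : Real (.tf4 q) Y) {p : ℕ} [hp : Fact p.Prime] (hp2 : p ≠ 2) :
    FieldFix p .tf4 q Y := by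
  obtain ⟨F, i1, i2, m, hm, hF, hq, ⟨e⟩⟩ := h
  have hfX : Finite Y := Finite.of_equiv _ e.symm.toEquiv
  subst hq
  refine fieldFix_congr e.symm (fieldFix_tf4' hm hF hp2) ?_
  rintro r A B ⟨e⟩ ⟨F', i1, i2, k, hk, hF', hr, ⟨e'⟩⟩
  exact ⟨F', i1, i2, k, hk, hF', hr, ⟨e.symm.trans e'⟩⟩

end Main

end Cfsg.Agent.H270.StrP
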